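import Cfsg.Agent.Lib.Helper28.TCCheck
import Cfsg.Agent.Lib.Helper28.Fi24Ord.Sub

set_option autoImplicit false
set_option linter.unusedVariables false

namespace Cfsg.Agent.Lib.Helper28.Fi24Ord.C120

open Cfsg.Agent.Lib.Helper28.Fi24Sub.R8 (Gen)
open Cfsg.Agent.Lib.Helper28.TC

noncomputable section

def hotA_c0 : ℕ := 0x0
def hotA : ℕ := hotA_c0
def coldA_c0 : ℕ := 0x0
def coldA : ℕ := coldA_c0
def treeT_c0 : ℕ := 0xee3bfb16eea7b7a26ce6baf926ae2fa78269de5a371e7da99b63e4d698f53e2d2b8b41e1ce98333decaf7322dcc6f6f135bc296b03d8bef5af2d6baf52e354b6752d3d2b2f42c2d0aef3ab34eaad36a24da6f2e92cba2f2683499ed1e72479ab1a63c496d1253429290a43418eb0231408acfa223e86cf212bb82aea01ba7ece1f2b77acd9e2b5766d5d23472cc9c2b16e6c5b2b06a8bda3ae66cb592ac628ad822a5eea570a95aaa1622756e9953a45249142234ee8531214ae8121a046e79139d42675021c3ee68f19a3a864e29836e58d21532a50c0142e04cb2122aa44a09126240928e22438810d1ea30718c1a62c620a16824538812e1843060ee1432850a8102183064081081020000000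
def treeT : ℕ := treeT_c0
def rowT_c0 : ℕ := 0xefdbaf4e7cb8f0dfbb6ecd7ab4e8cf9b2e4c78b0e0bf7aedcb76acd8af5aad4a74a8d09f3a6cc972a4c88f1a2c4870a0c07ef9ebc76e9cb86ed9ab466c98b05eb96ac56a94a84e992a446890a03e78e9c3668c982e58a9426488901e3868c16284880e182840608080
def rowT : ℕ := rowT_c0

end

end Cfsg.Agent.Lib.Helper28.Fi24Ord.C120
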