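import Cfsg.Agent.Lib.Helper28.TCCheck
import Cfsg.Agent.Lib.Helper28.Fi24Ord.Sub

set_option autoImplicit false
set_option linter.unusedVariables false

namespace Cfsg.Agent.Lib.Helper28.Fi24Ord.C120

open Cfsg.Agent.Lib.Helper28.Fi24Sub.R8 (Gen)
open Cfsg.Agent.Lib.Helper28.TC

noncomputable section

def hotE0_c0 : ℕ := 0xeebc763c3a6edce75e4fa713cf7ee5baf1ec3becfa75eddaaedd3b668baf3dd5b36fcbf164b9f1ccd8a65c3326098f2ed17adbbaf05c77edbbd69ddb32e5e986bca95a53aaec5475e9aad49d5aeed567667d9b3acc9ae84c93e5c9d3e529d28c8d1a3f8b1ac98b6444b1e45971f4a83e040efdfe84fb4183a240d0ddf74ebb973dc38cedde7ceb3d739e352cda164cbb563da350dda06cbd2d5c562d0bd615cbcb15c18294a1424e9d295255a82a923468da24492244991a4a7e1e3cd01d87cfb426e9a350e19a6cdc3a5d952cca15a5ca52c5d192c8c11c4c86243f911dc80de3c681c300d16460a02c481420090e040621c2a0c110506820240c09020402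
def hotE0 : ℕ := hotE0_c0
def coldE0_c0 : ℕ := 0xec06070001beda060fd80613d60617d40613d2061bd20613d0060b0001a2cc0613c8061bc60613c4061bc40617c2060f000186bc061bb8061bb80617b6061bb6061fb4061300016aac061bac0617a8061ba8061fa8060fa4061b00014e00014a9c061b9c061f9a061f9a061396061b96061700013200012e8e061f8e06138c061788061b88061f00011600011282061f80061780060b7c061f7c06130000fe0000fa74061774060f70061f6e06170000e60000e20000de68061364061f62061762060f0000ca0000c65c061b5a061f5806175606130000b20000ae4c06075006174e06134c061b00009e00009a46061342061b42060b00008a0000863c061b3a061b3a060f00007634061b34060f3206130000662c061b2a061328061700005200004e2406132206170000000000001c06171c060b1a060b18061718060f16060f14061312061310061b0c061b0c061f0a061b0a061708061306060f04060b000607000002000000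
def coldE0 : ℕ := coldE0_c0
def tfT0_c0 : ℕ := 0xefbfaf4e7cb8f0eda36ecd7ab4eec39b2e4c78b3dabf7aedcb7829d2af5aad4b36264b9f3a6d1a1162488f1a5497efa0c08709cb86ee9ebc76c98b466d9aac56b96b05e9d32854a5121469521d3e790193668e142658a982e488901e3868c16284880e182840608001
def tfT0 : ℕ := tfT0_c0

end

end Cfsg.Agent.Lib.Helper28.Fi24Ord.C120
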