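import Cfsg.Agent.Lib.Helper28.TCCheck
import Cfsg.Agent.Lib.Helper28.Fi24Ord.Sub

set_option autoImplicit false
set_option linter.unusedVariables false

namespace Cfsg.Agent.Lib.Helper28.Fi24Ord.C120

open Cfsg.Agent.Lib.Helper28.Fi24Sub.R8 (Gen)
open Cfsg.Agent.Lib.Helper28.TC

noncomputable section

def hotE1_c0 : ℕ := 0xee78765dfa8dfcef5e53a715cf7fe5bb71ee3c74fdb60d1ab6dd3f668daf3ed59b69d7f764f871dcd8ae5c37260b8efdc59367bb6d5cb66dcbd6a5db36e5896eecc1725fab6954b469bad4a55a2ea5094eacb152579b65ccd2a5d9d2acd93a64d942659f1bc48be1c4d1e1d8d0bc58da4c5d22007afc3c7ba03cefde07cffc27de0b90d9bf68dbb96c1c354ddc776ccb06f9d312b98164bdb1661aacea98866ada95496296ad665ead2d4cd22569d244c8e254c9421681043e7ea14291a0688e6366f1d354e1ca78c62c5e192d0c15c5cc5344e12254891e4c9b2a4a141e080e03c691c308d16860a22c491420890e440641c2b0c118506c20220810060081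
def hotE1 : ℕ := hotE1_c0
def coldE1_c0 : ℕ := 0x1beea062b0001bad80633d60637d40633d2063bd20633000000ce062f00019ec8063bc60633c4063bc40637c2062fc00633000182b8063bb80637b6063bb6063fb40633b0063b000166000162a8063ba8063fa8062fa4063ba0063ba006370001460001429a063f9a063396063b96063792063b92063f00012a0001268c063788063b88063f84063f84063300010e00010a76062b7c063f7c063378063f7606370000f20000ee70063f6e06376c063f6a06376a062f0000d60000ce62063762062f6006375e06330000be5a063f0000b656063354063352063b0000a65006370000a24c063b48063b00000046063300008e3c062b40063b40062f3c063b00007e00007a38063334063b34062f00006a3006372c063b2a06330000562804072604072406332206370000460000421c063700000000000018063718062f16062f14063312063310063b0c063b0c063f0a063b0a063708063306062f02062b000006000000000307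
def coldE1 : ℕ := coldE1_c0
def tfT1_c0 : ℕ := 0xdfdb774e7cb8f0efd73ecd7ab4e8db832e4c78b0e6b362edcb76afdea342ad4a74abd695266cc973e743851a2c4911de3b7ef9ec180d59b86ed9d2f72b58b068a592856a972c46992a44e7cf204484d1c3674a982e58c912048a131e3868c16284880e182840604100
def tfT1 : ℕ := tfT1_c0

end

end Cfsg.Agent.Lib.Helper28.Fi24Ord.C120
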