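import Cfsg.Agent.Lib.Helper28.TCCheck
import Cfsg.Agent.Lib.Helper28.Fi24Ord.Sub

set_option autoImplicit false
set_option linter.unusedVariables false

namespace Cfsg.Agent.Lib.Helper28.Fi24Ord.C120

open Cfsg.Agent.Lib.Helper28.Fi24Sub.R8 (Gen)
open Cfsg.Agent.Lib.Helper28.TC

noncomputable section

def hotE2_c0 : ℕ := 0xeefc75fbfa9edcfeee57a717cf80e5bbf1db74f5ddf9eebac67d43668faf3fd5b670cc346afb71fc18bdfc3b260d8efec57b61c7b362d96deb16b57b3ae58b6ebdb55ad9b76f5ab769da14b4fa32a50b4e7ea53b51a72b52b565f912b4d93e648f2e40951c4997a7449061e8d0c45845f4110e018511c77c1d3d0fe1088ecb7741e392edef80dcb36c5c3b0f5a362cd35641a370e5835ad1365cd5ad2bd625cc13255142e4c1404a9da954d625489254c9faa44d22188d294e7f213d4e1da7ce73c6f9d3d1019e5cc7345e992d4c19c6ca7264e95258a14c58851e3f0e1e48108487d22310d16c60a42c4a1421090e840661c2c0c12050641830100a040101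
def hotE2 : ℕ := hotE2_c0
def coldE2_c0 : ℕ := 0xde042b0001bae8064f0001b6d60657d40653d2065bd206530001a2000000cc065300019ac60653c4065bc40657000000c00653bc065b00017e00017ab6065bb6065fb40653b0065bac065bac065700015e00015a9c064fa4065ba0065ba006579c065b9c065f00013e00013a96065b96065792065b92065f8e065f8e065300011e88065b88065f84065f84065382065f8006570001027c065f7c06530000f67606577406570000000000e66e06576c065f0000da60064f68065364065f0000ca58064f6006570000c25c065b5a065f5806570000b25406530000aa52042b5006574e065300009e48065b00009246065342065b00008640065b0000003c065b3a065b00000038065300006e2c064f3206533006572c065b00005a28065728040b26040b24065300004a22042b20042b1c065700003a00003618065700000000000014065312065310065b0c065b0c065f0a065b0a065708065304064f00000a00000000040b00030b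
def coldE2 : ℕ := coldE2_c0
def tfT2_c0 : ℕ := 0xefbbaede7cb8f0d1dba66d7ab4efcfb2fdec78b0e0cb92bd6b76acd8bb727cea74a8d0ab523cc972a4c89b022c47b0a0c672fa1b676e9fb26ef183466e163554b96b14ebd22856852a946893203678e9c3e58c982e68914265470d1e4480c16284880e18284040c080
def tfT2 : ℕ := tfT2_c0

end

end Cfsg.Agent.Lib.Helper28.Fi24Ord.C120
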