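import Cfsg.Agent.Lib.Helper28.TCCheck
import Cfsg.Agent.Lib.Helper28.Fi24Ord.Sub

set_option autoImplicit false
set_option linter.unusedVariables false

namespace Cfsg.Agent.Lib.Helper28.Fi24Ord.C120

open Cfsg.Agent.Lib.Helper28.Fi24Sub.R8 (Gen)
open Cfsg.Agent.Lib.Helper28.TC

noncomputable section

def hotE3_c0 : ℕ := 0xef3c767dfa5ddd075e5ba719cf82dbbc71dbb86cba3a4edc0f2d4766939b41cb9ae2d937e519f48d7a06ac42f6117734d37be1bbb05cd7f0fc983e3b2ead8d6ebeb55b59abac54d5e9ead655ca36a50d4e7fa53bd19be4ccf3e609d2bcd942649312419537508c6144f1e20810cc59225c14f63090fabb87e33d4e5e17d04c3735b3e905c074f4bf6bd9356ddcc78cdb5645a314cdae70be315d182d4bd635cae2d555629a9943549e294d51a589d4c568ca14550268a1023c8c2545121d66d0144701d358e1d47cc8345f192d8c15e5ca82c4f1525ca122408724401124098dc346718368f19870a62c4b1421890ec40681c2d0c108408028260c0b040181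
def hotE3 : ℕ := hotE3_c0
def coldE3_c0 : ℕ := 0xde042fdc044f0001b6e20673d60677ca06730001b2c80673d0044f00019e000000c8067bba0673000196000192000186000000bc067bb8067bb80677000176000172000000b0067bac067bac0677a8067ba8067f000152a4067ba0067ba006779c067b9c067f9a067f00000096067b96067792067b92067f0001228206738c067788067b88067f00010e78067382067f00010680044f0000fe70067378067f0000f27406770000ea70067f0000e26c067f6a06770000d600000064067f6206770000c66006770000005c067b5a067f5806770000004a067352067b52042f5006774406734c067b00009648044f3e067300008a42044f40067b00008200007e3a067b00007600000034067b00006a0000003006772c067b00000028067728040f26040f1e067322067722042f20042f00003e1c044f1a044f18067700003200002e00000000000010067b0c067b0c067f0a067b0a067706067300000e00000002042f00040f00030f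
def coldE3 : ℕ := coldE3_c0
def tfT3_c0 : ℕ := 0xefdb6f4e7cb670df9faf1d797261dd9b569bb73460bf7b1e2a96acd8af5aadba74a8d0913a6cc970e4cf8319fc494f23ba8ae1ec26b01cbe62d9db466c9bb05eb96ac56954a844995203e9cea4466909c3678c982e58a94263c890243058e1a284880e182830808080
def tfT3 : ℕ := tfT3_c0

end

end Cfsg.Agent.Lib.Helper28.Fi24Ord.C120
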