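import Cfsg.Agent.Lib.Helper28.TCCheck
import Cfsg.Agent.Lib.Helper28.Fi24Ord.Sub

set_option autoImplicit false
set_option linter.unusedVariables false

namespace Cfsg.Agent.Lib.Helper28.Fi24Ord.C120

open Cfsg.Agent.Lib.Helper28.Fi24Sub.R8 (Gen)
open Cfsg.Agent.Lib.Helper28.TC

noncomputable section

def hotE4_c0 : ℕ := 0xef7c769dfaaedcdede5fa711af83e5ba6adbf86d1bf5dcfcd75d37270fcf73e39be9cb70eb9bb20cd8c65d3366138efcb79668bbf05cf7edfbd6c56b3ee5f78abfb55bd9abec55142d7bb494ea3aa50f4e80a53ccba9ebcc72291ab2c4d94a34f1463d871cc998a7c511e51990b3f84a24792a0284fcc17c6042b15e27ced3d745e38ad5c174dd396c9c358dd9f60e23b649a316cd8058bc2b679b2d6bd645caca85fd92eec544549ca45616a5a9d264c8ea54e14a1a8d05447d1d3d901dc7ce4347ca135ce19858e33c5f992dcc1584ccb364f95260a1565c882440911e880e23c6a1c2f8b16050bc34571822090f0406a1c290a140607020280c0c040201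
def hotE4 : ℕ := hotE4_c0
def coldE4_c0 : ℕ := 0xde0433dc0453da04730001b2c606970001aae0069b0001a6d00453ce047300019a00000000018e000000000000c20473000182000000aa069baa0697000000b6069f00016a0000009e069b9e06979a069b000156a8047300000094069b9406978e069b00013e9a069f0001368a069b8a069784069b00012a8e069f00011e0000007c069b00011684069f00010a82069f0000008004537c069f0000fa78069f00000068069774047370069f0000006c069f5e06976a04730000d264069f5606976204735406970000be0000005a069f4e06970000ae0000aa00000052043346069700009e00000000000048045300008e00000042045338069b40047300000032069b3a04730000722a069b34047300006600000024069b00005600000028041326041300004a0000002204332004330000001c04531a045314069718047316047300002a0000260000000000000c069f08069b080697000012000000040453020433000413000313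
def coldE4 : ℕ := coldE4_c0
def tfT4_c0 : ℕ := 0xefdbaece7ab8e9dfbb374c7cb868c1b72e4d78ad67bf7aed5b786cd8af3ee4da74a8caad1ea4c8b421489d1a5be87260c07f11ebc76d1cb86ed97ba66c95aa6ab96a762c14a358992a4508909c3e78ca03654e982e48d1426588901e3868a12305880e182050608080
def tfT4 : ℕ := tfT4_c0

end

end Cfsg.Agent.Lib.Helper28.Fi24Ord.C120
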