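import Cfsg.Agent.Lib.Helper28.TCCheck
import Cfsg.Agent.Lib.Helper28.Fi24Ord.Sub

set_option autoImplicit false
set_option linter.unusedVariables false

namespace Cfsg.Agent.Lib.Helper28.Fi24Ord.C120

open Cfsg.Agent.Lib.Helper28.Fi24Sub.R8 (Gen)
open Cfsg.Agent.Lib.Helper28.TC

noncomputable section

def hotE5_c0 : ℕ := 0xefbc76bdfabedd0f5e4b671bcf85d7bcf1dc386d3bf61ddad66e47a709cb3cc79c69cc746558359db89ddc472677aaffc57cdaca73dc55ee0bd8965b42e59152f8c35951ac2c5c37e9fad4bd5b1edd073281a558d99c284d13e5b8f2ccda0a9c952e42951d498b20cb53a218d0d4584e240af1fd7715c87ca03cce1e37ceab68121bf909c274db32795fb4ec5d47ace3564da30eb5b572d3375d582d8bd6052c333559629cad4554afae4d9425c9d274c8f25459221c8d06447fa13dd01de7ce83c6d99360e1a06cc42a6d1d2e0c1605ca424619a264a11a3ca32c41111d869184c6b1c3a9017060a82c4d1022891305060182f0e1285074202a0c0d040281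
def hotE5 : ℕ := hotE5_c0
def coldE5_c0 : ℕ := 0xde0437dc0457da0477d804970001aed404970001aad20497d00457ce0477cc0497000196000000c406bb00018ac20477c0049700017eb806bb000172b606bb000000b40497000166ac06bb00015aa806bb000000a8047700014ea006bb0001429c06bb0000008c06bf9a04979606bb00012e9206bb0000008006bf8e049700011a8806bb0000007606bf8404977406bf0001020000006e06bf7c04976a06bf0000ee0000ea0000006206bf0000de6006bf0000d60000000000005806bf0000c60000000000c20000005c06bb5006bf0000b20000000000005206bb5204370000a20000004c06bb4806bb4804570000004206bb4204574006bb4004773c06bb3a06bb3a04773804973406bb3404773204970000622c06bb2a049700005200000026041724049700004600000020043700003a0000001a04570000320000001604770000001204971006bb00001e0a06bf0a06bb000016000000060477040457020437000417000317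
def coldE5 : ℕ := coldE5_c0
def tfT5_c0 : ℕ := 0xefdbaf4d7cb570dfbb6e5e7c7168cf7f65cc7a70d9cd5aee4b74f050af7aad4b52e8d89f3a34ca52a4c881362c486edd477eddeb58505cb17cc1e3466b1c365eb943256a94ad4e992a446890a03e78e983668a1c2e588992638a90184868f162838812143040608080
def tfT5 : ℕ := tfT5_c0

end

end Cfsg.Agent.Lib.Helper28.Fi24Ord.C120
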