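import Cfsg.Agent.Lib.Helper28.TCCheck
import Cfsg.Agent.Lib.Helper28.Fi24Ord.Sub

set_option autoImplicit false
set_option linter.unusedVariables false

namespace Cfsg.Agent.Lib.Helper28.Fi24Ord.C120

open Cfsg.Agent.Lib.Helper28.Fi24Sub.R8 (Gen)
open Cfsg.Agent.Lib.Helper28.TC

noncomputable section

def hotE6_c0 : ℕ := 0xf03c76fdfadedd1f5e67a721b386e5bd71dcb86d7bf63ddadede3f9e979342d59d69ccf46579f22bd8ce5d2b5e077301c57d61bc6c5d17f21cd6955c0b1d936ec1a55c59bc305453e999d68dda426d114ec0b539ca9aa45435e98ad47d49362c890e72a31a429a684551e1c7f264c835ec872e3392fdc17b5cc3719dd6f064474de396edbd66f6406d1c3b8f9a56cceb56397378e98564bf315d982dabd8d68af2d55d629ead46549f294dd425e9d284c8fa545d221e8d074480213e101e07ce93c711d364e1a26cca346118304c9625caa2c5114284a9264c8b2245121f080e838731e328c19068ac2855161f870f4407c242e0c138507c202e0c0f040301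
def hotE6 : ℕ := hotE6_c0
def coldE6_c0 : ℕ := 0xde043fdc045fda047fd8049fd604bf0001aed204dfd2049fd0045fce047fcc049fc804dfd4049f00018ec404bfc2047fc0049fbc04df000176b804bfc404df00016eb4049fb004df00015eac04bfb804df000152000000a404df000146a004bfac04df00013a0001360000000001329604bfa004df00012600011e0000000000009604df00011200010a00000000010600000080045f0000fa0000000000f200000000000074047f0000e20000000000da0000006a047f68049f0000ca00000062047f0000005e049f5c04df0000b600000056049f54049f5204df52043f0000004e049f4c04df4804df48045f46049f4204df42045f4004df40047f3c04df3a04df3a047f38049f3404df34047f32049f3004bf2c04df2a049f2804bf00005e28041f24049f2204bf00004e22043f1c04bf0000421c045f1804bf00003618047f00002e14049f0000261004df00001a0a04df00000008049f06047f04045f02043f00041f00031b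
def coldE6 : ℕ := coldE6_c0
def tfT6_c0 : ℕ := 0xefdbaf4e7af8f0dfbb6ece58f4e8cf9aee4d56f0e0af7b2d4c56a8d8bf3a6dc994acc98f5aad3890a8419f19f4b792a4407115b4376e993f6ef5ab45ae58b05eb99ac56a94a84e992a446890a03e78e9c3668c973058a9328488111e3470b18245060e202840608080
def tfT6 : ℕ := tfT6_c0

end

end Cfsg.Agent.Lib.Helper28.Fi24Ord.C120
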