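import Cfsg.Agent.Lib.Helper28.TCCheck
import Cfsg.Agent.Lib.Helper28.Fi24Ord.Sub

set_option autoImplicit false
set_option linter.unusedVariables false

namespace Cfsg.Agent.Lib.Helper28.Fi24Ord.C120

open Cfsg.Agent.Lib.Helper28.Fi24Sub.R8 (Gen)
open Cfsg.Agent.Lib.Helper28.TC

noncomputable section

def hotE7_c0 : ℕ := 0xeffc76ddfacedd175e63a71dcf7dd5bdf1dc786d5bf62ddaa65d4b66898f7ce59ce9ccb46497f1bbba9edc2ee687af00c579d9baabe479edaab8d66c2b25874ebaa37961aaa7dd382a0ad6cdea2a65856e7b955cda9c6855362619d2a45a26a4972e7aa51dc98ca44531e228d29cd85224170e0384fd417ce03d6fde47cedbd749e394edc374ddb96cdc35adda46ccb2f651a318cd8464beb15bd532ad5655caead5453a90956e609ea94c512a0b12142a3ab444fa1279305090263c8da20910846709d34cb9e280c93460192e4c1a470a92c5015268a1244c892441911ec80e43c6c1c318d174609e24470e270b0dc308c2836101305078202c0c0e040381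
def hotE7 : ℕ := hotE7_c0
def coldE7_c0 : ℕ := 0xde043bdc045bda047bd8049bd604bbd4049b0001a6a41103d0045bce047bcc049b000192c6049b00018a000000c2047bc0049b00017a00017200000000016e000000b4049b00016200015a00000000015200000000000000014a00014200000000013a0000009a06df00000000012e0000000001260000008e06df0000008c04bb0001120000008406df0000008206df8004bb80045b7c06df0000007806df7604bb7404bb74047b7006df6e04bb6c06df6a04bb6a047b68049b6406df6204bb62047b6004bb5e049b0000ba5a06df5804bb56049b54049b0000a60000005004bb4e049b00009a00009200000046049b00008600000000008200000000007a00007600000000000000006a0000000000003004bb00005a0000002804bb28041b26041b0000002204bb22043b20043b1c04bb1c045b1a045b1804bb18047b16047b14049b12049b00002200001a00000000001600000000000006047b04045b02043b00041b00031f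
def coldE7 : ℕ := coldE7_c0
def tfT7_c0 : ℕ := 0xefdbaf4e7cb4f0dfbb6e4d78b8e8cf7ae6cb7ab0d8ad9aa65c74a8609d7eadd976a4d99f5e6c4a72a8c88f1a2cc870a0c07ef9ebc76e9cb86ed9aae66c98b052d16ac4c917a842ad02a3c753a5348d11c2c7cc982e6ca9426488901e3868c162030a0a243840608080
def tfT7 : ℕ := tfT7_c0

end

end Cfsg.Agent.Lib.Helper28.Fi24Ord.C120
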